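import Mathlib
import Cfsg.Prelude.Def_OddOrderLocal
import Cfsg.Agent.S1452
import Cfsg.Agent.S1397
import Cfsg.Agent.Lib.Helper23.PGroupEA

/-!
Bender–Glauberman Theorem 9.4, derived from Theorem 8.1 (landed, S1397) and Corollaries 9.2, 9.3
taken as hypotheses.
-/

set_option autoImplicit false

namespace Cfsg.Agent.Lib.Helper49.BG

open Cfsg

/-- A `p`-subgroup `S` (`p` odd) with an elementary abelian subgroup of order `> p ^ 2` has a
normal self-centralizing subgroup of rank at least three. -/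
theorem exists_scn3 {G : Type*} [Group G] [Finite G] (p : ℕ) [hp : Fact p.Prime] (hp2 : p ≠ 2)
    (S : Subgroup G) (hPp : IsPGroup p ↥S) (hrk : ¬ Cfsg.PRankLE p 2 ↥S) :
    ∃ A : Subgroup G, Cfsg.IsSCN S A ∧ ¬ Cfsg.PRankLE p 2 ↥A ∧ IsPGroup p A ∧
      IsMulCommutative A := by
  classical
  obtain ⟨U, hUn, hUe, hU2, -⟩ := Cfsg.Agent.Lib.Helper23.exists_normal_EA_sq p hPp hrk
  obtain ⟨A', -, hA'n, hA'c, hA'r⟩ := Cfsg.Agent.S1452.result p hp2 hPp hrk U hUe hU2
  obtain ⟨A, hA⟩ : ∃ A : Subgroup G, A = A'.map S.subtype := ⟨_, rfl⟩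
  have hAP : A ≤ S := by rw [hA]; exact Subgroup.map_subtype_le A'
  have hmemA : ∀ (x : G) (hx : x ∈ S), x ∈ A ↔ (⟨x, hx⟩ : ↥S) ∈ A' := by
    intro x hx
    rw [hA]
    constructor
    · rintro ⟨y, hy, hyx⟩
      have : y = ⟨x, hx⟩ := Subtype.ext hyx
      rw [← this]; exact hy
    · intro h
      exact ⟨⟨x, hx⟩, h, rfl⟩
  have hAcomm : ∀ a ∈ A, ∀ b ∈ A, a * b = b * a := by
    intro a ha b hb
    have ha' := (hmemA a (hAP ha)).mp ha
    have hb' := (hmemA b (hAP hb)).mp hb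
    have hb'' : (⟨b, hAP hb⟩ : ↥S) ∈ Subgroup.centralizer (A' : Set ↥S) := by
      rw [hA'c]; exact hb'
    have := hb'' ⟨a, hAP ha⟩ ha'
    exact congrArg Subtype.val this
  have hSCN : Cfsg.IsSCN S A := by
    refine ⟨hAP, ?_, ?_⟩
    · intro g hg
      rw [Subgroup.mem_normalizer_iff]
      intro x
      constructor
      · intro hx
        have hxP := hAP hx
        have hcP : g * x * g⁻¹ ∈ S :=
          Subgroup.mul_mem _ (Subgroup.mul_mem _ hg hxP) (Subgroup.inv_mem _ hg)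
        rw [hmemA _ hcP]
        have := hA'n.conj_mem ⟨x, hxP⟩ ((hmemA x hxP).mp hx) ⟨g, hg⟩
        exact this
      · intro hx
        have hcP := hAP hx
        have hxP : x ∈ S := by
          have := Subgroup.mul_mem _ (Subgroup.mul_mem _ (Subgroup.inv_mem _ hg) hcP) hg
          have e : g⁻¹ * (g * x * g⁻¹) * g = x := by group
          rwa [e] at this
        rw [hmemA _ hxP]
        have := hA'n.conj_mem ⟨g * x * g⁻¹, hcP⟩ ((hmemA _ hcP).mp hx) ⟨g, hg⟩⁻¹
        have e : (⟨g, hg⟩ : ↥S)⁻¹ * ⟨g * x * g⁻¹, hcP⟩ * (⟨g, hg⟩ : ↥S)⁻¹⁻¹ =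
            ⟨x, hxP⟩ := by
          apply Subtype.ext
          simp only [Subgroup.coe_mul, Subgroup.coe_inv]
          group
        rwa [e] at this
    · apply le_antisymm
      · rintro x ⟨hxP, hxC⟩
        rw [hmemA x hxP, ← hA'c]
        intro y hy
        apply Subtype.ext
        have hyA : (y : G) ∈ A := (hmemA _ y.2).mpr hy
        exact hxC (y : G) hyA
      · intro x hx
        refine ⟨hAP hx, ?_⟩
        intro y hy
        exact hAcomm y hy x hx
  have hAr : ¬ Cfsg.PRankLE p 2 ↥A := by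
    intro h
    apply hA'r
    intro B hBc hBe
    have e : ↥A' ≃* ↥A := by
      rw [hA]
      exact (A'.equivMapOfInjective _ S.subtype_injective)
    have h1 := h (B.map e.toMonoidHom) ?_ ?_
    · rwa [Subgroup.card_map_of_injective e.injective] at h1
    · rw [isMulCommutative_iff]
      rintro ⟨_, ⟨a, ha, rfl⟩⟩ ⟨_, ⟨b, hb, rfl⟩⟩
      apply Subtype.ext
      have hab : (⟨a, ha⟩ : B) * ⟨b, hb⟩ = ⟨b, hb⟩ * ⟨a, ha⟩ := (isMulCommutative_iff.mp hBc) _ _
      have hab' : a * b = b * a := congrArg Subtype.val hab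
      show e.toMonoidHom a * e.toMonoidHom b = e.toMonoidHom b * e.toMonoidHom a
      rw [← map_mul, ← map_mul, hab']
    · rintro _ ⟨a, ha, rfl⟩
      rw [← map_pow, hBe a ha, map_one]
  have hAp : IsPGroup p A := hPp.to_le hAP
  have hAmc : IsMulCommutative A := by
    rw [isMulCommutative_iff]
    rintro ⟨a, ha⟩ ⟨b, hb⟩
    exact Subtype.ext (hAcomm a ha b hb)
  exact ⟨A, hSCN, hAr, hAp, hAmc⟩

/-- An elementary abelian `p`-group is a `p`-group. -/
theorem isPGroup_of_isElementaryAbelian {G : Type*} [Group G] {p : ℕ} {D : Subgroup G}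
    (hD : Cfsg.IsElementaryAbelian p D) : IsPGroup p D := by
  intro ⟨d, hd⟩
  refine ⟨1, ?_⟩
  apply Subtype.ext
  rw [pow_one]
  exact hD.2 d hd

/-- An elementary abelian `p`-group of order greater than `p` is not cyclic. -/
theorem not_isCyclic_of_isElementaryAbelian {G : Type*} [Group G] [Finite G] {p : ℕ}
    [hp : Fact p.Prime] {D : Subgroup G} (hD : Cfsg.IsElementaryAbelian p D)
    (hcard : p < Nat.card D) : ¬ IsCyclic D := by
  intro hc
  have hpp : p.Prime := hp.out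
  have hexp : Monoid.exponent D ∣ p := by
    apply Monoid.exponent_dvd_of_forall_pow_eq_one
    rintro ⟨d, hd⟩
    apply Subtype.ext
    exact hD.2 d hd
  have hle : Nat.card D ≤ p := by
    rw [← IsCyclic.exponent_eq_card]
    exact Nat.le_of_dvd hpp.pos hexp
  omega

/-- A `p`-group of order greater than `p ^ 2` has order at least `p ^ 3`. -/
theorem pow_three_le_card {G : Type*} [Group G] [Finite G] {p : ℕ} [hp : Fact p.Prime]
    {D : Subgroup G} (hD : IsPGroup p D) (hcard : p ^ 2 < Nat.card D) : p ^ 3 ≤ Nat.card D := by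
  have hpp : p.Prime := hp.out
  obtain ⟨n, hn⟩ := IsPGroup.iff_card.mp hD
  rw [hn] at hcard ⊢
  have h2 : 2 < n := (Nat.pow_lt_pow_iff_right hpp.one_lt).mp hcard
  exact Nat.pow_le_pow_right hpp.pos h2

/-- BG Theorem 9.4 from Theorem 8.1 and Corollaries 9.2 and 9.3. -/
theorem s1401_core {G : Type*} [Group G] [Finite G] (hG : Cfsg.IsMinSimpleOddOrder G)
    (h1399 : ∀ (L K : Subgroup G), Cfsg.InUniqueMaximal L →
      K ≤ Subgroup.centralizer (L : Set G) → ¬ Cfsg.RankLE 1 K → Cfsg.InUniqueMaximal K)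
    (h1400 : ∀ (p : ℕ) [Fact p.Prime] (A B : Subgroup G), IsPGroup p A → IsMulCommutative A →
      ¬ Cfsg.PRankLE p 2 ↥A → Cfsg.InUniqueMaximal A → IsPGroup p B → ¬ IsCyclic B →
      ¬ Cfsg.PRankLE p 2 ↥(Subgroup.centralizer (B : Set G)) → Cfsg.InUniqueMaximal B)
    (M : Subgroup G) (hM : IsCoatom M) (p : ℕ) [hp : Fact p.Prime]
    (hF : ¬ Cfsg.PRankLE p 2 ↥(Cfsg.fittingOf M))
    (A : Subgroup G) (hAp : IsPGroup p A) (hAc : IsMulCommutative A)
    (hA3 : ¬ Cfsg.PRankLE p 2 ↥A) :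
    Cfsg.InUniqueMaximal A := by
  classical
  have hpp : p.Prime := hp.out
  -- data about `A`
  obtain ⟨D', hD'e, hD'A, hD'card⟩ := Cfsg.Agent.Lib.Helper23.exists_EA_of_not_pRankLE p hA3
  have hAcomm : ∀ a ∈ A, ∀ b ∈ A, a * b = b * a := by
    intro a ha b hb
    have := (isMulCommutative_iff.mp hAc) ⟨a, ha⟩ ⟨b, hb⟩
    exact congrArg Subtype.val this
  have hAC : A ≤ Subgroup.centralizer (A : Set G) := by
    intro x hx y hy
    exact hAcomm y hy x hx
  have hCr : ¬ Cfsg.PRankLE p 2 ↥(Subgroup.centralizer (A : Set G)) :=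
    Cfsg.Agent.Lib.Helper23.not_pRankLE_of_le p hD'e (hD'A.trans hAC) hD'card
  have hppow : p < p ^ 2 := by
    have := hpp.one_lt
    nlinarith
  have hAnc : ¬ IsCyclic A := by
    intro hc
    have hD'c : IsCyclic D' := by
      have : IsCyclic (D'.subgroupOf A) := Subgroup.isCyclic _
      exact isCyclic_of_surjective _ (Subgroup.subgroupOfEquivOfLe hD'A).surjective
    exact not_isCyclic_of_isElementaryAbelian hD'e (by omega) hD'c
  -- `p` is odd
  have hp2 : p ≠ 2 := by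
    intro h2
    have hD'p := isPGroup_of_isElementaryAbelian hD'e
    have hdvd : p ∣ Nat.card D' := by
      obtain ⟨n, hn⟩ := IsPGroup.iff_card.mp hD'p
      rw [hn] at hD'card ⊢
      have : n ≠ 0 := by
        intro h0
        rw [h0, pow_zero] at hD'card
        have := Nat.one_le_pow 2 p hpp.pos
        omega
      exact dvd_pow_self p this
    have hdvd' : p ∣ Nat.card G := hdvd.trans (Subgroup.card_subgroup_dvd_card D')
    rw [h2] at hdvd'
    exact (Nat.not_even_iff_odd.mpr hG.1) (even_iff_two_dvd.mpr hdvd')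
  -- a maximal elementary abelian subgroup of `F(M)` of order at least `p ^ 3`
  obtain ⟨D, hDe, hDF, hDcard⟩ := Cfsg.Agent.Lib.Helper23.exists_EA_of_not_pRankLE p hF
  obtain ⟨A₀, hDA₀, hA₀max'⟩ :=
    (Set.toFinite {B : Subgroup G | B ≤ Cfsg.fittingOf M ∧ Cfsg.IsElementaryAbelian p B ∧
      D ≤ B}).exists_le_maximal (a := D) ⟨hDF, hDe, le_rfl⟩
  obtain ⟨hA₀F, hA₀e, -⟩ := hA₀max'.prop
  have hA₀p := isPGroup_of_isElementaryAbelian hA₀e
  have hA₀card : p ^ 2 < Nat.card A₀ := lt_of_lt_of_le hDcard (Subgroup.card_le_of_le hDA₀)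
  have hA₀3 : p ^ 3 ≤ Nat.card A₀ := pow_three_le_card hA₀p hA₀card
  have hA₀max : ∀ B : Subgroup G, B ≤ Cfsg.fittingOf M → Cfsg.IsElementaryAbelian p B →
      A₀ ≤ B → B = A₀ := by
    intro B hBF hBe hle
    exact le_antisymm (hA₀max'.le_of_ge ⟨hBF, hBe, hDA₀.trans hle⟩ hle) hle
  have hA₀r : ¬ Cfsg.PRankLE p 2 ↥A₀ :=
    Cfsg.Agent.Lib.Helper23.not_pRankLE_of_le p hA₀e le_rfl hA₀card
  obtain ⟨ha, hb⟩ := Cfsg.Agent.S1397.result hG M hM p A₀ hA₀F hA₀e hA₀3 hA₀max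
  by_cases hFp : IsPGroup p ↥(Cfsg.fittingOf M)
  · -- `F(M)` is a `p`-group
    obtain ⟨P⟩ : Nonempty (Sylow p M) := inferInstance
    obtain ⟨-, hb2⟩ := hb hFp P
    obtain ⟨S, hS⟩ : ∃ S : Subgroup G, S = (P : Subgroup M).map M.subtype := ⟨_, rfl⟩
    rw [← hS] at hb2
    have hSp : IsPGroup p ↥S := by
      rw [hS]
      exact P.isPGroup'.map _
    have hFS : Cfsg.fittingOf M ≤ S := by
      rw [hS]
      unfold Cfsg.fittingOf
      apply Subgroup.map_mono
      have : (Cfsg.fittingSubgroup ↥M).Normal := Cfsg.Agent.Lib.Helper71.fittingSubgroup_normal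
      have hFp' : IsPGroup p ↥(Cfsg.fittingSubgroup ↥M) := by
        have e : ↥(Cfsg.fittingSubgroup ↥M) ≃* ↥(Cfsg.fittingOf M) :=
          (Cfsg.fittingSubgroup ↥M).equivMapOfInjective M.subtype M.subtype_injective
        exact hFp.of_equiv e.symm
      exact Cfsg.Agent.Lib.Helper72.BG8.le_sylow_of_normal P _ hFp'
    have hSr : ¬ Cfsg.PRankLE p 2 ↥S :=
      Cfsg.Agent.Lib.Helper23.not_pRankLE_of_le p hA₀e (hA₀F.trans hFS) hA₀card
    obtain ⟨A₁, hSCN, hA₁r, hA₁p, hA₁c⟩ := exists_scn3 p hp2 S hSp hSr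
    obtain ⟨-, hA₁U⟩ := hb2 A₁ hSCN hA₁r
    exact h1400 p A₁ A hA₁p hA₁c hA₁r hA₁U hAp hAnc hCr
  · -- `F(M)` is not a `p`-group
    have hLU := ha hFp
    have hA₀L : A₀ ≤ Subgroup.centralizer
        ((Cfsg.fittingOf M ⊓ Subgroup.centralizer (A₀ : Set G) : Subgroup G) : Set G) := by
      intro a ha' l hl
      exact (hl.2 a ha').symm
    have hA₀rk : ¬ Cfsg.RankLE 1 A₀ := by
      intro h
      have h1 := h p hpp (⊤ : Subgroup ↥A₀) ?_ ?_
      · rw [Subgroup.card_top, pow_one] at h1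
        omega
      · rw [isMulCommutative_iff]
        rintro ⟨a, -⟩ ⟨b, -⟩
        apply Subtype.ext
        exact (isMulCommutative_iff.mp hA₀e.1) a b
      · rintro ⟨a, ha'⟩ -
        apply Subtype.ext
        exact hA₀e.2 a ha'
    have hA₀U := h1399 _ A₀ hLU hA₀L hA₀rk
    exact h1400 p A₀ A hA₀p hA₀e.1 hA₀r hA₀U hAp hAnc hCr

end Cfsg.Agent.Lib.Helper49.BG
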