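import Mathlib
import Cfsg.Agent.Lib.Helper65.BG.S1391Defs
import Cfsg.Agent.S0034
import Cfsg.Agent.S0035
import Cfsg.Agent.S0042
import Cfsg.Agent.Lib.Helper23.NilpParts

/-!
# S1391 project, package Frob

In a finite group with a Frobenius complement `E`, the Frobenius kernel is the largest normal
nilpotent Hall subgroup (`fittingHall`).
-/

set_option autoImplicit false

namespace Cfsg.Agent.Lib.Helper49.BG

open Cfsg Pointwise

universe u

/-- Every normal nilpotent subgroup of a Frobenius group lies in the Frobenius kernel `N`. -/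
theorem frob_normal_nilpotent_le {X : Type u} [Group X] [Finite X] (E N : Subgroup X)
    (hEtop : E ≠ ⊤) (hfrob : ∀ g : X, g ∉ E → E ⊓ (MulAut.conj g • E) = ⊥)
    (hNk : (N : Set X) = Cfsg.frobeniusKernel E) (hNn : N.Normal) (hNE : N ⊓ E = ⊥)
    (hNcard : Nat.card N = E.index) (hcop : (Nat.card N).Coprime (Nat.card E))
    (F : Subgroup X) (hFn : F.Normal) (hFnil : Group.IsNilpotent F) : F ≤ N := by
  by_contra hle
  obtain ⟨f, hfF, hfN⟩ := SetLike.not_le_iff_exists.mp hle
  have hfN' : f ∉ Cfsg.frobeniusKernel E := by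
    rw [← hNk]; exact hfN
  have hf2 : f ≠ 1 ∧ ∃ g : X, f ∈ MulAut.conj g • E := by
    unfold Cfsg.frobeniusKernel at hfN'
    simp only [Set.mem_setOf_eq, not_or, not_forall, not_not] at hfN'
    exact hfN'
  obtain ⟨hf1, g, hfg⟩ := hf2
  -- the element `e`
  have heE : g⁻¹ * f * g ∈ E := by
    have := Subgroup.mem_pointwise_smul_iff_inv_smul_mem.mp hfg
    simpa [MulAut.smul_def, MulAut.conj_apply] using this
  have heF : g⁻¹ * f * g ∈ F := by
    have := hFn.conj_mem f hfF g⁻¹
    simpa using this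
  have he1 : g⁻¹ * f * g ≠ 1 := by
    intro h
    apply hf1
    have : f = g * (g⁻¹ * f * g) * g⁻¹ := by group
    rw [this, h]; group
  generalize g⁻¹ * f * g = e at heE heF he1
  -- the centralizer of `e` in `N` is trivial
  have hC : ∀ n ∈ N, n * e * n⁻¹ = e → n = 1 := by
    intro n hn hne
    by_cases hnE : n ∈ E
    · have : n ∈ N ⊓ E := ⟨hn, hnE⟩
      rw [hNE] at this
      exact Subgroup.mem_bot.mp this
    · exfalso
      have h1 := hfrob n hnE
      have h2 : e ∈ MulAut.conj n • E := by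
        rw [Subgroup.mem_pointwise_smul_iff_inv_smul_mem]
        have h3 : (MulAut.conj n)⁻¹ • e = n⁻¹ * e * n := by
          simp [MulAut.smul_def]
        rw [h3]
        have h4 : n⁻¹ * e * n = e := by
          calc n⁻¹ * e * n = n⁻¹ * (n * e * n⁻¹) * n := by rw [hne]
            _ = e := by group
        rw [h4]; exact heE
      have h5 : e ∈ E ⊓ MulAut.conj n • E := ⟨heE, h2⟩
      rw [h1] at h5
      exact he1 (Subgroup.mem_bot.mp h5)
  -- `N ≤ F` by counting
  have hNF : N ≤ F := by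
    have hinj : Function.Injective (fun n : N => (⟨(n : X) * e * (n : X)⁻¹ * e⁻¹,
        ⟨F.mul_mem (hFn.conj_mem e heF n) (F.inv_mem heF), by
          have h1 : (n : X) * e * (n : X)⁻¹ * e⁻¹ = (n : X) * (e * (n : X)⁻¹ * e⁻¹) := by group
          rw [h1]
          exact N.mul_mem n.2 (hNn.conj_mem _ (N.inv_mem n.2) e)⟩⟩ : (F ⊓ N : Subgroup X))) := by
      intro n m hnm
      have h1 : (n : X) * e * (n : X)⁻¹ * e⁻¹ = (m : X) * e * (m : X)⁻¹ * e⁻¹ :=
        congrArg (fun z : (F ⊓ N : Subgroup X) => (z : X)) hnm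
      have h2 : (n : X) * e * (n : X)⁻¹ = (m : X) * e * (m : X)⁻¹ := mul_right_cancel h1
      have h3 : ((m : X)⁻¹ * (n : X)) * e * ((m : X)⁻¹ * (n : X))⁻¹ = e := by
        calc ((m : X)⁻¹ * (n : X)) * e * ((m : X)⁻¹ * (n : X))⁻¹
            = (m : X)⁻¹ * ((n : X) * e * (n : X)⁻¹) * (m : X) := by group
          _ = (m : X)⁻¹ * ((m : X) * e * (m : X)⁻¹) * (m : X) := by rw [h2]
          _ = e := by group
      have h4 := hC _ (N.mul_mem (N.inv_mem m.2) n.2) h3
      apply Subtype.ext
      have h5 : (n : X) = (m : X) * ((m : X)⁻¹ * (n : X)) := by group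
      rw [h5, h4, mul_one]
    have hcard : Nat.card N ≤ Nat.card (F ⊓ N : Subgroup X) :=
      Nat.card_le_card_of_injective _ hinj
    have heq : F ⊓ N = N := Subgroup.eq_of_le_of_card_ge inf_le_right hcard
    rw [← heq]; exact inf_le_left
  -- `e` centralizes `N`
  have hcomm : ∀ n ∈ N, n * e = e * n := by
    intro n hn
    apply Cfsg.Agent.Lib.Helper23.comm_of_coprime_orderOf hFnil (hNF hn) heF
    have h1 : orderOf n ∣ Nat.card N := by
      have := orderOf_dvd_natCard (⟨n, hn⟩ : N)
      rwa [Subgroup.orderOf_mk] at this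
    have h2 : orderOf e ∣ Nat.card E := by
      have := orderOf_dvd_natCard (⟨e, heE⟩ : E)
      rwa [Subgroup.orderOf_mk] at this
    exact Nat.Coprime.coprime_dvd_left h1 (Nat.Coprime.coprime_dvd_right h2 hcop)
  have hNbot : N = ⊥ := by
    rw [eq_bot_iff]
    intro n hn
    have h1 : n * e * n⁻¹ = e := by
      rw [hcomm n hn]; group
    exact Subgroup.mem_bot.mpr (hC n hn h1)
  have h1 : E.index = 1 := by
    rw [← hNcard, hNbot]; exact Subgroup.card_bot
  exact hEtop (Subgroup.index_eq_one.mp h1)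

/-- Package Frob of the S1391 project. -/
theorem lemFrob : Cfsg.Agent.Lib.Helper65.BG91.LemFrob.{u} := by
  intro X _ _ E hE
  obtain ⟨N, hNk, hNn, hNc⟩ := Cfsg.Agent.S0035.result E hE
  haveI := hNn
  have hNnil : Group.IsNilpotent N := Cfsg.Agent.S0042.kernel_nilpotent E hE N hNk
  obtain ⟨hcard, hmod⟩ := Cfsg.Agent.S0034.result E hE
  obtain ⟨hEbot, hEtop, hfrob⟩ := hE
  have hNcard : Nat.card N = E.index := by
    have h1 : Nat.card (N : Set X) = E.index := by rw [hNk]; exact hcard
    exact h1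
  have hNE : N ⊓ E = ⊥ := hNc.disjoint.eq_bot
  have hNidx : N.index = Nat.card E := hNc.symm.index_eq_card
  have hcop : (Nat.card N).Coprime (Nat.card E) := by
    rw [hNcard]
    have h1 : Nat.gcd E.index (Nat.card E) = Nat.gcd 1 (Nat.card E) := Nat.ModEq.gcd_eq hmod
    rw [Nat.Coprime, h1]; exact Nat.gcd_one_left _
  have hle : Cfsg.fittingHall X ≤ N := by
    unfold Cfsg.fittingHall
    apply sSup_le
    rintro F ⟨hFn, hFnil, -⟩
    exact frob_normal_nilpotent_le E N hEtop hfrob hNk hNn hNE hNcard hcop F hFn hFnil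
  have hge : N ≤ Cfsg.fittingHall X := by
    unfold Cfsg.fittingHall
    apply le_sSup
    refine ⟨hNn, hNnil, ?_⟩
    rw [hNidx]; exact hcop
  have heq : Cfsg.fittingHall X = N := le_antisymm hle hge
  rw [heq]; exact hNk.symm

end Cfsg.Agent.Lib.Helper49.BG
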