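import Mathlib
import Cfsg.Prelude.Def_OddOrderLocal
import Cfsg.Agent.S1393
import Cfsg.Agent.S1396
import Cfsg.Agent.S1398
import Cfsg.Agent.S1401
import Cfsg.Agent.S1450
import Cfsg.Agent.S1451
import Cfsg.Agent.Lib.Helper61.BG9c
import Cfsg.Agent.Lib.Helper72.BG8
import Cfsg.Agent.Lib.Helper22.PComp
import Cfsg.Agent.Lib.Helper48.Generation
import Cfsg.Agent.Lib.Helper23.NilpParts
import Cfsg.Agent.Lib.Helper49.BG.S1401Core

/-!
Bender–Glauberman Theorem 9.5 (a member of `SCN_3(P)` lies in a unique maximal subgroup):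
anchors and fusion control — helper49.
-/

set_option autoImplicit false

namespace Cfsg.Agent.Lib.Helper49.BG

open Cfsg Cfsg.Agent.Lib.Helper23 Cfsg.Agent.Lib.Helper61
open scoped commutatorElement

universe u

variable {G : Type u} [Group G]

/-- `V` is an anchor for the subgroup `M` with respect to `A`: `V` is normalized by `M`, and
whenever a conjugate `V ^ n` is normalized by `A`, then `n ∈ M`. -/
def IsAnchor (A M V : Subgroup G) : Prop :=
  M ≤ Subgroup.normalizer (V : Set G) ∧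
    ∀ n : G, A ≤ Subgroup.normalizer ((V.map (MulAut.conj n).toMonoidHom : Subgroup G) : Set G) →
      n ∈ M

/-- Fusion control: a conjugate of `A` inside `M` is conjugate by an element of `M`. -/
theorem IsAnchor.fusion {A M V : Subgroup G} (h : IsAnchor A M V) {g : G}
    (hg : A.map (MulAut.conj g).toMonoidHom ≤ M) : g ∈ M := by
  have h1 : g⁻¹ ∈ M := by
    apply h.2
    intro a ha
    apply bg_mem_normalizer_mapConj
    apply h.1
    apply hg
    rw [mem_mapConj]
    have e : g⁻¹ * (g⁻¹⁻¹ * a * g⁻¹) * g = a := by group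
    rw [e]
    exact ha
  simpa using M.inv_mem h1

/-- The normalizer of a subgroup of `M` containing `A` lies in `M`. -/
theorem IsAnchor.normalizer_le {A M V : Subgroup G} (h : IsAnchor A M V) {T : Subgroup G}
    (hAT : A ≤ T) (hTM : T ≤ M) : Subgroup.normalizer (T : Set G) ≤ M := by
  intro n hn
  apply h.2
  intro a ha
  apply bg_mem_normalizer_mapConj
  apply h.1
  apply hTM
  have hn' : n⁻¹ ∈ Subgroup.normalizer (T : Set G) := Subgroup.inv_mem _ hn
  have := (Subgroup.mem_normalizer_iff.mp hn' a).mp (hAT ha)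
  simpa using this

/-- Every `p`-subgroup containing `A` lies in `M`, together with its normalizer. -/
theorem IsAnchor.pGroup_le [Finite G] {A M V : Subgroup G} (h : IsAnchor A M V) {p : ℕ}
    [Fact p.Prime] {T : Subgroup G} (hT : IsPGroup p T) (hAT : A ≤ T) (hAM : A ≤ M) :
    T ≤ M ∧ Subgroup.normalizer (T : Set G) ≤ M := by
  have hTM : T ≤ M := by
    by_contra hne
    have hlt : T ⊓ M < T := lt_of_le_of_ne inf_le_left (fun he => hne (he ▸ inf_le_right))
    have h1 := lt_inf_normalizer_of_pGroup hT hlt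
    have h2 : T ⊓ Subgroup.normalizer ((T ⊓ M : Subgroup G) : Set G) ≤ T ⊓ M :=
      le_inf inf_le_left (inf_le_right.trans (h.normalizer_le (le_inf hAT hAM) inf_le_right))
    exact (not_le_of_gt h1) h2
  exact ⟨hTM, h.normalizer_le hAT hTM⟩

/-- A finite group all of whose prime divisors equal `p` is a `p`-group. -/
theorem isPGroup_of_forall_prime_dvd {X : Type*} [Group X] [Finite X] {p : ℕ}
    (h : ∀ r : ℕ, r.Prime → r ∣ Nat.card X → r = p) : IsPGroup p X := by
  have hpos : Nat.card X ≠ 0 := Nat.card_pos.ne'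
  have h1 := Nat.eq_prime_pow_of_unique_prime_dvd hpos (fun {d} hd hdvd => h d hd hdvd)
  exact IsPGroup.of_card h1

/-- A prime divisor of the order of an `r`-group is `r`. -/
theorem eq_of_prime_dvd_card_pGroup {X : Type*} [Group X] [Finite X] {r s : ℕ} [Fact r.Prime]
    (hX : IsPGroup r X) (hs : s.Prime) (h : s ∣ Nat.card X) : s = r := by
  obtain ⟨n, hn⟩ := IsPGroup.iff_card.mp hX
  rw [hn] at h
  exact (Nat.prime_dvd_prime_iff_eq hs Fact.out).mp (hs.dvd_of_dvd_pow h)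

/-- The transitivity statement (conclusion of BG Theorem 7.3) for `A`. -/
def TransOn (A : Subgroup G) : Prop :=
  ∀ q : ℕ, q.Prime → ¬ q ∣ Nat.card A →
    ∀ Q₁ ∈ maxInvSubgroups ⊤ A {q}, ∀ Q₂ ∈ maxInvSubgroups ⊤ A {q},
      ∃ k ∈ piCoreOf (primesNotDvd (Nat.card A)) (Subgroup.centralizer (A : Set G)),
        Q₂ = Q₁.map (MulAut.conj k).toMonoidHom

/-- Anchor for a maximal subgroup of type (B): the `u`-part of `F(M)` when it has rank at least
three. -/
theorem typeB_anchor [Finite G] (hG : IsMinSimpleOddOrder G) {A : Subgroup G}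
    (hA : TransitivityHypothesis A) (htr : TransOn A)
    {M : Subgroup G} (hM : IsCoatom M) (hAM : A ≤ M)
    (hKM : piCoreOf (primesNotDvd (Nat.card A)) (Subgroup.centralizer (A : Set G)) ≤ M)
    {u : ℕ} [Fact u.Prime] (huA : ¬ u ∣ Nat.card A)
    (hF : ¬ PRankLE u 2 ↥(fittingOf M)) :
    ∃ V S : Subgroup G, IsAnchor A M V ∧ IsPGroup u V ∧ V ≤ M ∧ InUniqueMaximal V ∧
      S ∈ maxInvSubgroups ⊤ A {u} ∧ S ≤ M ∧ InUniqueMaximal S ∧ V ≤ S := by
  classical
  have hA1 : A ≠ ⊥ := hA.1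
  have hM1 : M ≠ ⊥ := fun h => hA1 (le_bot_iff.mp (h ▸ hAM))
  have hMtop : M ≠ ⊤ := hM.1
  obtain ⟨V, hV⟩ := exists_isRPart (fittingOf M) (fittingOf_isNilpotent M) u
  have hVM : V ≤ M := hV.1.trans (fittingOf_le M)
  have hVu : IsPGroup u V := hV.2.1
  have hMV : M ≤ Subgroup.normalizer (V : Set G) :=
    (le_normalizer_fittingOf M).trans hV.normalizer_le
  obtain ⟨D, hDe, hDF, hDcard⟩ := exists_EA_of_not_pRankLE u hF
  have hDV : D ≤ V := by
    intro d hd
    apply hV.2.2 d (hDF hd)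
    apply isPGroup_zpowers_of_pow (k := 1)
    rw [pow_one]
    exact hDe.2 d hd
  have hDU : InUniqueMaximal D :=
    Cfsg.Agent.S1401.result hG M hM u hF D (isPGroup_of_isElementaryAbelian hDe) hDe.1
      (not_pRankLE_of_le u hDe le_rfl hDcard)
  have hVU : InUniqueMaximal V := bg_unique_of_le hDU hDV hM hVM
  have hVinv : V ∈ invSubgroups ⊤ A {u} := mem_inv_of_isPGroup le_top hVu (hAM.trans hMV)
  obtain ⟨S, hS, hVS⟩ := exists_maxInv_ge hVinv
  have hSu : IsPGroup u S := isPGroup_of_mem_inv hS.1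
  have hSM : S ≤ M := by
    obtain ⟨M₁, hM₁, hSM₁⟩ :=
      bg_exists_isCoatom_ge (Cfsg.Agent.Lib.Helper72.BG8.isPGroup_ne_top hG hSu)
    have := bg_unique_eq hVU hM hVM hM₁ (hVS.trans hSM₁)
    rw [this]
    exact hSM₁
  have hSU : InUniqueMaximal S := bg_unique_of_le hVU hVS hM hSM
  have hall : ∀ X : Subgroup G, IsPGroup u X → A ≤ Subgroup.normalizer (X : Set G) → X ≤ M := by
    intro X hXu hAX
    obtain ⟨S', hS', hXS'⟩ := exists_maxInv_ge (mem_inv_of_isPGroup (H := ⊤) le_top hXu hAX)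
    obtain ⟨k, hk, rfl⟩ := htr u Fact.out huA S hS S' hS'
    intro x hx
    have h1 := hXS' hx
    rw [mem_mapConj] at h1
    have hkM := hKM hk
    have h2 := M.mul_mem (M.mul_mem hkM (hSM h1)) (M.inv_mem hkM)
    have e : k * (k⁻¹ * x * k) * k⁻¹ = x := by group
    rwa [e] at h2
  have hNM : Subgroup.normalizer (M : Set G) = M :=
    Cfsg.Agent.Lib.Helper72.BG8.normalizer_eq_of_coatom_le hG M hM hM1 hMtop
      Subgroup.le_normalizer
  refine ⟨V, S, ⟨hMV, ?_⟩, hVu, hVM, hVU, hS, hSM, hSU, hVS⟩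
  intro n hn
  have hVn : V.map (MulAut.conj n).toMonoidHom ≤ M := hall _ (bg_isPGroup_mapConj hVu n) hn
  have hMn := bg_isCoatom_mapConj hM n
  have heq : M = M.map (MulAut.conj n).toMonoidHom :=
    bg_unique_eq (bg_unique_mapConj hVU n) hM hVn hMn (Subgroup.map_mono hVM)
  have h3 : n ∈ Subgroup.normalizer (M : Set G) :=
    bg_mem_normalizer_of_mapConj_le (le_of_eq heq.symm)
  rw [hNM] at h3
  exact h3

/-- A `q`-subgroup of `M` lies in every normal subgroup of `M` of index prime to `q`. -/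
theorem le_map_of_isPGroup_of_not_dvd_index {M : Subgroup G} (N : Subgroup ↥M) [N.Normal]
    {q : ℕ} (hq : q.Prime) (hidx : ¬ q ∣ N.index) {X : Subgroup G} (hXq : IsPGroup q X)
    (hXM : X ≤ M) : X ≤ N.map M.subtype := by
  intro x hx
  refine ⟨⟨x, hXM hx⟩, ?_, rfl⟩
  obtain ⟨k, hk⟩ := hXq ⟨x, hx⟩
  have hxk : (⟨x, hXM hx⟩ : ↥M) ^ q ^ k = 1 := by
    apply Subtype.ext
    have := congrArg Subtype.val hk
    simpa using this
  have h2 : (⟨x, hXM hx⟩ : ↥M) ^ N.index ∈ N := N.pow_index_mem _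
  have hcop : (q ^ k).Coprime N.index :=
    Nat.Coprime.pow_left k ((Nat.Prime.coprime_iff_not_dvd hq).mpr hidx)
  have h3 : (QuotientGroup.mk (⟨x, hXM hx⟩ : ↥M) : ↥M ⧸ N) = 1 := by
    have ha : (QuotientGroup.mk (⟨x, hXM hx⟩ : ↥M) : ↥M ⧸ N) ^ q ^ k = 1 := by
      rw [← QuotientGroup.mk_pow, hxk]
      rfl
    have hb : (QuotientGroup.mk (⟨x, hXM hx⟩ : ↥M) : ↥M ⧸ N) ^ N.index = 1 := by
      rw [← QuotientGroup.mk_pow]
      exact (QuotientGroup.eq_one_iff _).mpr h2
    have hd := Nat.dvd_gcd (orderOf_dvd_of_pow_eq_one ha) (orderOf_dvd_of_pow_eq_one hb)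
    rw [Nat.Coprime.gcd_eq_one hcop] at hd
    exact orderOf_eq_one_iff.mp (Nat.dvd_one.mp hd)
  exact (QuotientGroup.eq_one_iff _).mp h3

/-- Anchor for a maximal subgroup of type (A'): the normal Sylow subgroup of `O_{p'}(M)` for the
largest prime. -/
theorem typeA_anchor [Finite G] (hG : IsMinSimpleOddOrder G) {p : ℕ} [Fact p.Prime]
    {A : Subgroup G} (hAp : IsPGroup p A) (hA3 : ¬ PRankLE p 2 ↥A)
    (hA : TransitivityHypothesis A) (htr : TransOn A)
    {M : Subgroup G} (hM : IsCoatom M) (hAM : A ≤ M)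
    (hKM : piCoreOf (primesNotDvd (Nat.card A)) (Subgroup.centralizer (A : Set G)) ≤ M)
    (hr : RankLE 2 (fittingSubgroup ↥M)) (hFp : PRankLE p 2 ↥(fittingOf M)) :
    ∃ V : Subgroup G, IsAnchor A M V := by
  classical
  have hpp : p.Prime := Fact.out
  have hA1 : A ≠ ⊥ := hA.1
  have hMtop : M ≠ ⊤ := hM.1
  have : Group.IsSolvable ↥M := hG.2.2.2 M hMtop
  have hoddM : Odd (Nat.card ↥M) := Odd.of_dvd_nat hG.1 (Subgroup.card_subgroup_dvd_card M)
  obtain ⟨hnil, -, hHall⟩ := Cfsg.Agent.S1451.result hoddM (Or.inr hr)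
  have hcomm : commutator ↥M ≤ fittingSubgroup ↥M := le_sSup ⟨inferInstance, hnil⟩
  obtain ⟨Y, hYdef⟩ : ∃ Y : Subgroup G, Y = piCoreOf (primesNotDvd (Nat.card A)) M := ⟨_, rfl⟩
  have hYM : Y ≤ M := hYdef ▸ piCoreOf_le _ M
  have hMY : M ≤ Subgroup.normalizer (Y : Set G) := hYdef ▸ piCoreOf_normalizer _ M
  have hYπ : ∀ r : ℕ, r.Prime → r ∣ Nat.card Y → r ∈ primesNotDvd (Nat.card A) :=
    hYdef ▸ piCoreOf_isPi _ M
  -- `O_{p'}(M)` is nontrivial
  have hY1 : Y ≠ ⊥ := by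
    intro hYbot
    have hFpg : IsPGroup p ↥(fittingOf M) := by
      apply isPGroup_of_forall_prime_dvd
      intro r hr hrdvd
      by_contra hrp
      have : Fact r.Prime := ⟨hr⟩
      obtain ⟨Pr, hPr⟩ := exists_isRPart (fittingOf M) (fittingOf_isNilpotent M) r
      have hPr1 : Pr ≠ ⊥ := hPr.ne_bot hrdvd
      have hPrM : Pr ≤ M := hPr.1.trans (fittingOf_le M)
      have hMPr : M ≤ Subgroup.normalizer (Pr : Set G) :=
        (le_normalizer_fittingOf M).trans hPr.normalizer_le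
      have hle : Pr ≤ piCoreOf (primesNotDvd (Nat.card A)) M := by
        apply le_piCoreOf_of_normal hPrM hMPr
        intro s hs hsdvd
        have hsr : s = r := eq_of_prime_dvd_card_pGroup hPr.2.1 hs hsdvd
        rw [hsr]
        refine ⟨hr, ?_⟩
        intro hrA
        exact hrp (eq_of_prime_dvd_card_pGroup hAp hr hrA)
      rw [← hYdef, hYbot] at hle
      exact hPr1 (le_bot_iff.mp hle)
    have hAF : A ≤ Subgroup.normalizer (fittingOf M : Set G) :=
      hAM.trans (le_normalizer_fittingOf M)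
    have hNp : IsPGroup p ↥(A ⊔ fittingOf M) := hAp.to_sup_of_normal_right' hFpg hAF
    have hNM : A ⊔ fittingOf M ≤ M := sup_le hAM (fittingOf_le M)
    have hMN : M ≤ Subgroup.normalizer ((A ⊔ fittingOf M : Subgroup G) : Set G) := by
      intro h hh
      apply bg_mem_normalizer_of_mapConj_le
      intro y hy
      rw [mem_mapConj] at hy
      have hzM : h⁻¹ * y * h ∈ M := hNM hy
      have hc : h * (h⁻¹ * y * h) * h⁻¹ * (h⁻¹ * y * h)⁻¹ ∈ fittingOf M := by
        refine ⟨⁅(⟨h, hh⟩ : ↥M), ⟨h⁻¹ * y * h, hzM⟩⁆, hcomm ?_, rfl⟩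
        rw [commutator_def]
        exact Subgroup.commutator_mem_commutator (Subgroup.mem_top _) (Subgroup.mem_top _)
      have e : y = (h * (h⁻¹ * y * h) * h⁻¹ * (h⁻¹ * y * h)⁻¹) * (h⁻¹ * y * h) := by group
      rw [e]
      exact Subgroup.mul_mem _ ((le_sup_right : fittingOf M ≤ A ⊔ fittingOf M) hc) hy
    have hAle : A ≤ fittingOf M :=
      le_sup_left.trans (Cfsg.Agent.Lib.Helper72.BG8.le_fittingOf_of_normal_nilpotent M _ hNM hMN
        hNp.isNilpotent)
    obtain ⟨D', hD'e, hD'A, hD'card⟩ := exists_EA_of_not_pRankLE p hA3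
    exact (not_pRankLE_of_le p hD'e (hD'A.trans hAle) hD'card) hFp
  -- the largest prime divisor `q` of `|O_{p'}(M)|`
  have hYcard : 1 < Nat.card ↥Y := (Subgroup.one_lt_card_iff_ne_bot Y).mpr hY1
  have hne : (Nat.card ↥Y).primeFactors.Nonempty := Nat.nonempty_primeFactors.mpr hYcard
  obtain ⟨q, hqdef⟩ : ∃ q : ℕ, q = (Nat.card ↥Y).primeFactors.max' hne := ⟨_, rfl⟩
  have hqmem : q ∈ (Nat.card ↥Y).primeFactors := hqdef ▸ Finset.max'_mem _ hne
  have hqp : q.Prime := Nat.prime_of_mem_primeFactors hqmem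
  have hqdvd : q ∣ Nat.card ↥Y := Nat.dvd_of_mem_primeFactors hqmem
  have hqmax : ∀ r : ℕ, r.Prime → r ∣ Nat.card ↥Y → r ≤ q := by
    intro r hr hrd
    rw [hqdef]
    exact Finset.le_max' _ r (Nat.mem_primeFactors.mpr ⟨hr, hrd, Nat.card_pos.ne'⟩)
  have : Fact q.Prime := ⟨hqp⟩
  have hqπ : q ∈ primesNotDvd (Nat.card A) := hYπ q hqp hqdvd
  have hqA : ¬ q ∣ Nat.card A := hqπ.2
  -- the characteristic Hall subgroup for the primes `≥ q`
  obtain ⟨N, hNchar, hNhall⟩ := hHall (q - 1)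
  have hNn : N.Normal := Subgroup.normal_of_characteristic N
  have hNidx : ¬ q ∣ N.index := hNhall.2 q hqp ⟨hqp, by have := hqp.pos; omega⟩
  have hMNG : M ≤ Subgroup.normalizer ((N.map M.subtype : Subgroup G) : Set G) :=
    le_normalizer_map_subtype_of_normal N hNn
  obtain ⟨Q, hQdef⟩ : ∃ Q : Subgroup G, Q = Y ⊓ N.map M.subtype := ⟨_, rfl⟩
  have hQY : Q ≤ Y := hQdef ▸ inf_le_left
  have hQN : Q ≤ N.map M.subtype := hQdef ▸ inf_le_right
  have hQM : Q ≤ M := hQY.trans hYM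
  have hMQ : M ≤ Subgroup.normalizer (Q : Set G) := by
    intro m hm
    have h1 := Subgroup.mem_normalizer_iff.mp (hMY hm)
    have h2 := Subgroup.mem_normalizer_iff.mp (hMNG hm)
    rw [Subgroup.mem_normalizer_iff]
    intro x
    rw [hQdef, Subgroup.mem_inf, Subgroup.mem_inf, h1 x, h2 x]
  have hQq : IsPGroup q ↥Q := by
    apply isPGroup_of_forall_prime_dvd
    intro r hr hrdvd
    have h1 : r ≤ q := hqmax r hr (hrdvd.trans (Subgroup.card_dvd_of_le hQY))
    have h2 : r ∣ Nat.card N := by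
      have := hrdvd.trans (Subgroup.card_dvd_of_le hQN)
      rwa [Subgroup.card_map_of_injective M.subtype_injective] at this
    have h3 : q - 1 < r := (hNhall.1 r hr h2).2
    omega
  have hQsyl : ∀ X : Subgroup G, IsPGroup q X → X ≤ Y → X ≤ Q := by
    intro X hX hXY
    rw [hQdef]
    exact le_inf hXY (le_map_of_isPGroup_of_not_dvd_index N hqp hNidx hX (hXY.trans hYM))
  have hQ1 : Q ≠ ⊥ := by
    intro hQbot
    obtain ⟨Sy⟩ : Nonempty (Sylow q ↥Y) := inferInstance
    have hSy1 : (Sy : Subgroup ↥Y) ≠ ⊥ := Sy.ne_bot_of_dvd_card hqdvd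
    have hle : (Sy : Subgroup ↥Y).map Y.subtype ≤ Q :=
      hQsyl _ (Sy.isPGroup'.map _) (Subgroup.map_subtype_le _)
    rw [hQbot, le_bot_iff] at hle
    exact hSy1 ((Subgroup.map_eq_bot_iff_of_injective _ Y.subtype_injective).mp hle)
  have hNQ : Subgroup.normalizer (Q : Set G) = M :=
    Cfsg.Agent.Lib.Helper72.BG8.normalizer_eq_of_coatom_le hG M hM hQ1
      (Cfsg.Agent.Lib.Helper72.BG8.isPGroup_ne_top hG hQq) hMQ
  -- `Q` is a maximal `A`-invariant `q`-subgroup
  have hQinv : Q ∈ invSubgroups ⊤ A {q} := mem_inv_of_isPGroup le_top hQq (hAM.trans hMQ)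
  have hQmax : Q ∈ maxInvSubgroups ⊤ A {q} := by
    refine ⟨hQinv, ?_⟩
    intro R hR hQR
    by_contra hne'
    have hRq : IsPGroup q R := isPGroup_of_mem_inv hR
    have hlt : Q < R := lt_of_le_of_ne hQR (Ne.symm hne')
    have h1 := lt_inf_normalizer_of_pGroup hRq hlt
    rw [hNQ] at h1
    have hX : R ⊓ M ∈ invSubgroups M A (primesNotDvd (Nat.card A)) := by
      refine ⟨inf_le_right, ?_, ?_⟩
      · intro s hs hsdvd
        have hsq : s = q := eq_of_prime_dvd_card_pGroup (hRq.to_le inf_le_left) hs hsdvd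
        rw [hsq]
        exact hqπ
      · intro a ha
        have h1 := Subgroup.mem_normalizer_iff.mp (hR.2.2 ha)
        have h2 := Subgroup.mem_normalizer_iff.mp (Subgroup.le_normalizer (hAM ha))
        rw [Subgroup.mem_normalizer_iff]
        intro x
        rw [Subgroup.mem_inf, Subgroup.mem_inf, h1 x, h2 x]
    have h2 : R ⊓ M ≤ Y := hYdef ▸ le_piCoreOf_of_mem_inv hA hMtop hAM hX
    have h3 : R ⊓ M ≤ Q := hQsyl _ (hRq.to_le inf_le_left) h2
    exact (not_le_of_gt h1) h3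
  refine ⟨Q, hMQ, ?_⟩
  intro n hn
  have hQn : IsPGroup q ↥(Q.map (MulAut.conj n).toMonoidHom) := bg_isPGroup_mapConj hQq n
  obtain ⟨S', hS', hle⟩ := exists_maxInv_ge (mem_inv_of_isPGroup (H := ⊤) le_top hQn hn)
  obtain ⟨k, hk, rfl⟩ := htr q hqp hqA Q hQmax S' hS'
  have hkQ : Q.map (MulAut.conj k).toMonoidHom = Q :=
    mapConj_eq_of_mem_normalizer (hMQ (hKM hk))
  rw [hkQ] at hle
  have h3 := bg_mem_normalizer_of_mapConj_le hle
  rw [hNQ] at h3
  exact h3

end Cfsg.Agent.Lib.Helper49.BG
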