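import Mathlib
import Cfsg.Agent.Lib.Helper49.BG.S1402A
import Cfsg.Agent.Lib.Helper2.BG.Burnside95
import Cfsg.Agent.Lib.Helper89.BG95.Gen3
import Cfsg.Agent.Lib.Helper97.BG95N1

/-!
Bender–Glauberman Theorem 9.5 (a member of `SCN_3(P)` lies in a unique maximal subgroup):
the main argument — helper49.
-/

set_option autoImplicit false

namespace Cfsg.Agent.Lib.Helper49.BG

open Cfsg Cfsg.Agent.Lib.Helper23 Cfsg.Agent.Lib.Helper61
open scoped commutatorElement

universe u

variable {G : Type u} [Group G]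

/-- If `F(M)` does not have rank at most two, some `u`-rank of `F(M)` is at least three. -/
theorem exists_prime_not_pRankLE {M : Subgroup G} (hr : ¬ RankLE 2 (fittingSubgroup ↥M)) :
    ∃ u : ℕ, u.Prime ∧ ¬ PRankLE u 2 ↥(fittingOf M) := by
  unfold RankLE at hr
  push Not at hr
  obtain ⟨q, hq, hqr⟩ := hr
  refine ⟨q, hq, ?_⟩
  intro hc
  apply hqr
  exact bg_pRankLE_of_injective
    ((fittingSubgroup ↥M).equivMapOfInjective M.subtype M.subtype_injective).toMonoidHom
    (MulEquiv.injective _) hc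

/-- A maximal subgroup over `A` other than the type (B) subgroup `M` has `u`-rank at most two. -/
theorem pRankLE_of_ne [Finite G] (hG : IsMinSimpleOddOrder G) {A M V : Subgroup G}
    (hM : IsCoatom M) {u : ℕ} [Fact u.Prime] (hF : ¬ PRankLE u 2 ↥(fittingOf M))
    (hanc : IsAnchor A M V) (hVu : IsPGroup u V) (hVM : V ≤ M) (hVU : InUniqueMaximal V)
    {M' : Subgroup G} (hM' : IsCoatom M') (hAM' : A ≤ M') (hne : M' ≠ M) :
    PRankLE u 2 ↥M' := by
  classical
  by_contra hrk
  obtain ⟨X', hX'e, hX'M', hX'card⟩ := exists_EA_of_not_pRankLE u hrk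
  have hX'u := isPGroup_of_isElementaryAbelian hX'e
  have hX'U : InUniqueMaximal X' :=
    Cfsg.Agent.S1401.result hG M hM u hF X' hX'u hX'e.1 (not_pRankLE_of_le u hX'e le_rfl hX'card)
  obtain ⟨S₁, hS₁⟩ := hX'u.exists_le_sylow
  obtain ⟨S₂, hS₂⟩ := hVu.exists_le_sylow
  obtain ⟨g, hg⟩ := MulAction.exists_smul_eq G S₂ S₁
  have hS₁top : (S₁ : Subgroup G) ≠ ⊤ :=
    Cfsg.Agent.Lib.Helper72.BG8.isPGroup_ne_top hG S₁.isPGroup'
  obtain ⟨M₁, hM₁, hS₁M₁⟩ := bg_exists_isCoatom_ge hS₁top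
  have hM₁eq : M' = M₁ := bg_unique_eq hX'U hM' hX'M' hM₁ (hS₁.trans hS₁M₁)
  have hVg : V.map (MulAut.conj g).toMonoidHom ≤ M' := by
    rw [hM₁eq]
    refine le_trans ?_ hS₁M₁
    rw [← hg, Sylow.coe_subgroup_smul, conj_smul_eq_mapConj]
    exact Subgroup.map_mono hS₂
  have hMg := bg_isCoatom_mapConj hM g
  have heq : M' = M.map (MulAut.conj g).toMonoidHom :=
    bg_unique_eq (bg_unique_mapConj hVU g) hM' hVg hMg (Subgroup.map_mono hVM)
  have hAn : A ≤ Subgroup.normalizer
      ((V.map (MulAut.conj g).toMonoidHom : Subgroup G) : Set G) := by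
    intro a ha
    have haM : a ∈ M.map (MulAut.conj g).toMonoidHom := heq ▸ hAM' ha
    rw [mem_mapConj] at haM
    apply bg_mem_normalizer_mapConj
    exact hanc.1 haM
  have hgM : g ∈ M := hanc.2 g hAn
  have h3 : M.map (MulAut.conj g).toMonoidHom = M :=
    mapConj_eq_of_mem_normalizer (Subgroup.le_normalizer hgM)
  exact hne (heq.trans h3)

/-- Step 4: the element `a` of `A ∩ N(A)'` centralizes the maximal `A`-invariant `u`-subgroup
attached to a maximal subgroup of type (B). -/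
theorem step4 [Finite G] (hG : IsMinSimpleOddOrder G) {p : ℕ} [Fact p.Prime] {A : Subgroup G}
    (hAp : IsPGroup p A) (hAcomm : ∀ a ∈ A, ∀ b ∈ A, a * b = b * a) (hA3 : ¬ PRankLE p 2 ↥A)
    (hTH : TransitivityHypothesis A)
    (hanchor : ∀ M' : Subgroup G, IsCoatom M' → A ≤ M' →
      piCoreOf (primesNotDvd (Nat.card A)) (Subgroup.centralizer (A : Set G)) ≤ M' →
      ∃ V', IsAnchor A M' V')
    {M : Subgroup G} (hM : IsCoatom M) (hAM : A ≤ M)
    {u : ℕ} [Fact u.Prime] (hup : u ≠ p) (hF : ¬ PRankLE u 2 ↥(fittingOf M))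
    {V S : Subgroup G} (hanc : IsAnchor A M V) (hVu : IsPGroup u V) (hVM : V ≤ M)
    (hVU : InUniqueMaximal V) (hS : S ∈ maxInvSubgroups ⊤ A {u})
    {a : G} (haA : a ∈ A)
    (haN : a ∈ ⁅Subgroup.normalizer (A : Set G), Subgroup.normalizer (A : Set G)⁆)
    (hAU : ¬ InUniqueMaximal A) : S ≤ Subgroup.centralizer ({a} : Set G) := by
  classical
  have hpp : p.Prime := Fact.out
  by_contra hSa
  obtain ⟨E, hEe, hEA, hEcard⟩ := exists_EA_of_not_pRankLE p hA3
  have hSu : IsPGroup u S := isPGroup_of_mem_inv hS.1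
  have hSp : ¬ p ∣ Nat.card S := fun h => hup (eq_of_prime_dvd_card_pGroup hSu hpp h).symm
  have hAS : A ≤ Subgroup.normalizer (S : Set G) := hS.1.2.2
  obtain ⟨B, hBE, hBe, -, hBnc, hB⟩ :=
    Cfsg.Agent.Lib.Helper89.BG95.exists_EA_sq_not_le hEe hEcard hSp (hEA.trans hAS)
      (Subgroup.centralizer ({a} : Set G)) hSa
  have hBA : B ≤ A := hBE.trans hEA
  have hgood : ∀ b ∈ B, b ≠ 1 → Subgroup.centralizer ({b} : Set G) ≤ M := by
    intro b hb hb1
    obtain ⟨M', hM', hCM'⟩ := bg_exists_isCoatom_ge (centralizer_singleton_ne_top hG hb1)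
    by_cases hMM : M' = M
    · rw [← hMM]
      exact hCM'
    exfalso
    have hACb : A ≤ Subgroup.centralizer ({b} : Set G) := by
      intro x hx
      rw [mem_centralizer_singleton]
      exact hAcomm b (hBA hb) x hx
    have hAM' : A ≤ M' := hACb.trans hCM'
    have hKM' : piCoreOf (primesNotDvd (Nat.card A)) (Subgroup.centralizer (A : Set G)) ≤ M' :=
      (piCoreOf_le _ _).trans
        ((Subgroup.centralizer_le (Set.singleton_subset_iff.mpr (hBA hb))).trans hCM')
    obtain ⟨V', hV'⟩ := hanchor M' hM' hAM' hKM'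
    have hNA : Subgroup.normalizer (A : Set G) ≤ M' := (hV'.pGroup_le hAp le_rfl hAM').2
    have haM' : a ∈ ⁅M', M'⁆ := Subgroup.commutator_mono hNA hNA haN
    have hrk : PRankLE u 2 ↥M' := pRankLE_of_ne hG hM hF hanc hVu hVM hVU hM' hAM' hMM
    have hWM' : S ⊓ Subgroup.centralizer ({b} : Set G) ≤ M' := inf_le_right.trans hCM'
    have hWu : IsPGroup u ↥(S ⊓ Subgroup.centralizer ({b} : Set G)) := hSu.to_le inf_le_left
    have hAW : A ≤ Subgroup.normalizer
        ((S ⊓ Subgroup.centralizer ({b} : Set G) : Subgroup G) : Set G) := by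
      intro x hx
      exact Cfsg.Agent.Lib.Helper89.BG95.inf_normalizer_le_normalizer_inf _ _
        ⟨hAS hx, Subgroup.le_normalizer (hACb hx)⟩
    have hcent := Cfsg.Agent.Lib.Helper97.BG95.th_inf_commutator_le_centralizer hG (p := p)
      (q := u) hup.symm A hTH hAp M' hM'.1 hAM' hrk _ hWM' hWu hAW
    have haC : a ∈ Subgroup.centralizer
        ((S ⊓ Subgroup.centralizer ({b} : Set G) : Subgroup G) : Set G) := hcent ⟨haA, haM'⟩
    apply hB
    intro x hx
    have hx' : x ∈ S ⊓ Subgroup.centralizer ({b} : Set G) :=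
      ⟨hx.1, Subgroup.centralizer_le (Set.singleton_subset_iff.mpr hb) hx.2⟩
    rw [mem_centralizer_singleton]
    exact (Subgroup.mem_centralizer_iff.mp haC x hx').symm
  have hBU := Cfsg.Agent.S1398.result hG M hM p B (hBA.trans hAM) hBe hBnc (Or.inl hgood)
  exact hAU (bg_unique_of_le hBU hBA hM hAM)

/-- Endgame for a maximal subgroup `H` of type (A') containing `N(A)`: it lies in every maximal
subgroup `Ma` with an anchor that contains `C(a)`. -/
theorem typeA_le [Finite G] (hG : IsMinSimpleOddOrder G) {p : ℕ} [Fact p.Prime]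
    {A : Subgroup G} (hAp : IsPGroup p A)
    {H Ma Va : Subgroup G} (hH : IsCoatom H) (hAH : A ≤ H)
    (hr : RankLE 2 (fittingSubgroup ↥H))
    (hNA : Subgroup.normalizer (A : Set G) ≤ H)
    (hAMa : A ≤ Ma) (hanc : IsAnchor A Ma Va)
    {a : G} (haA : a ∈ A)
    (haN : a ∈ ⁅Subgroup.normalizer (A : Set G), Subgroup.normalizer (A : Set G)⁆)
    (hCa : Subgroup.centralizer ({a} : Set G) ≤ Ma) : H ≤ Ma := by
  classical
  have hpp : p.Prime := Fact.out
  have hHtop : H ≠ ⊤ := hH.1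
  have : Group.IsSolvable ↥H := hG.2.2.2 H hHtop
  have hoddH : Odd (Nat.card ↥H) := Odd.of_dvd_nat hG.1 (Subgroup.card_subgroup_dvd_card H)
  have hnil := (Cfsg.Agent.S1451.result hoddH (Or.inr hr)).1
  have hcomm : commutator ↥H ≤ fittingSubgroup ↥H := le_sSup ⟨inferInstance, hnil⟩
  have hcomm' : ⁅H, H⁆ ≤ fittingOf H := by
    rw [← Subgroup.map_subtype_commutator]
    exact Subgroup.map_mono hcomm
  have haF : a ∈ fittingOf H := hcomm' (Subgroup.commutator_mono hNA hNA haN)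
  obtain ⟨ka, hka⟩ := exists_orderOf_eq_pow hAp haA
  have hFMa : fittingOf H ≤ Ma := by
    apply le_of_pElements
    intro r hr hrdvd x hx hxr
    have : Fact r.Prime := ⟨hr⟩
    by_cases hrp : r = p
    · subst hrp
      obtain ⟨Pr, hPr⟩ := exists_isRPart (fittingOf H) (fittingOf_isNilpotent H) r
      have hxPr : x ∈ Pr := hPr.2.2 x hx hxr
      have hHPr : H ≤ Subgroup.normalizer (Pr : Set G) :=
        (le_normalizer_fittingOf H).trans hPr.normalizer_le
      have hT : IsPGroup r ↥(A ⊔ Pr) := hAp.to_sup_of_normal_right' hPr.2.1 (hAH.trans hHPr)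
      exact (hanc.pGroup_le hT le_sup_left hAMa).1 ((le_sup_right : Pr ≤ A ⊔ Pr) hxPr)
    · obtain ⟨kx, hkx⟩ := exists_orderOf_eq_pow hxr (Subgroup.mem_zpowers x)
      have hcop : (orderOf x).Coprime (orderOf a) := by
        rw [hkx, hka]
        exact Nat.Coprime.pow _ _ ((Nat.coprime_primes hr hpp).mpr hrp)
      have hxa := comm_of_coprime_orderOf (fittingOf_isNilpotent H) hx haF hcop
      apply hCa
      rw [mem_centralizer_singleton]
      exact hxa.symm
  intro h hh
  apply hanc.fusion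
  intro y hy
  rw [mem_mapConj] at hy
  have hzH : h⁻¹ * y * h ∈ H := hAH hy
  have hc : h * (h⁻¹ * y * h) * h⁻¹ * (h⁻¹ * y * h)⁻¹ ∈ fittingOf H := by
    refine ⟨⁅(⟨h, hh⟩ : ↥H), ⟨h⁻¹ * y * h, hzH⟩⁆, hcomm ?_, rfl⟩
    rw [commutator_def]
    exact Subgroup.commutator_mem_commutator (Subgroup.mem_top _) (Subgroup.mem_top _)
  have e : y = (h * (h⁻¹ * y * h) * h⁻¹ * (h⁻¹ * y * h)⁻¹) * (h⁻¹ * y * h) := by group
  rw [e]
  exact Ma.mul_mem (hFMa hc) (hAMa hy)

/-- **Bender–Glauberman Theorem 9.5**: if `P` is a Sylow `p`-subgroup of the minimal simple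
group `G` of odd order and `A ∈ SCN_3(P)`, then `A` lies in a unique maximal subgroup. -/
theorem s1402_core [Finite G] (hG : IsMinSimpleOddOrder G) (p : ℕ) [Fact p.Prime]
    (P : Sylow p G) (A : Subgroup G) (hA : IsSCN (P : Subgroup G) A)
    (hA3 : ¬ PRankLE p 2 ↥A) : InUniqueMaximal A := by
  classical
  by_contra hAU
  have hpp : p.Prime := Fact.out
  have hAp : IsPGroup p A := P.isPGroup'.to_le hA.1
  have hAcomm := bg_isSCN_comm hA
  have hAc : IsMulCommutative A := by
    rw [isMulCommutative_iff]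
    rintro ⟨a, ha⟩ ⟨b, hb⟩
    exact Subtype.ext (hAcomm a ha b hb)
  obtain ⟨E, hEe, hEA, hEcard⟩ := exists_EA_of_not_pRankLE p hA3
  have hppow : p < p ^ 2 := by
    have := hpp.one_lt
    nlinarith
  have hEnc : ¬ IsCyclic E := not_isCyclic_of_isElementaryAbelian hEe (by omega)
  have hAcard : p ^ 2 < Nat.card A := lt_of_lt_of_le hEcard (Subgroup.card_le_of_le hEA)
  have hA1 : A ≠ ⊥ := by
    rintro rfl
    rw [Subgroup.card_bot] at hAcard
    have := hpp.one_lt
    nlinarith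
  have hpG : p ∣ Nat.card G := by
    obtain ⟨n, hn⟩ := IsPGroup.iff_card.mp hAp
    have hn0 : n ≠ 0 := by
      rintro rfl
      rw [hn, pow_zero] at hAcard
      have := hpp.one_lt
      nlinarith
    have h1 : p ∣ Nat.card A := hn ▸ dvd_pow_self p hn0
    exact h1.trans (Subgroup.card_subgroup_dvd_card A)
  have hA1' : ¬ PRankLE p 1 ↥A := fun h => hA3 (fun B hB hBe =>
    (h B hB hBe).trans (Nat.pow_le_pow_right hpp.pos (by norm_num)))
  have hTH : TransitivityHypothesis A :=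
    Cfsg.Agent.S1396.result hG p hpG A hAp hAc (Or.inr ⟨P, hA, hA1'⟩)
  have hAC : A ≤ Subgroup.centralizer (A : Set G) := fun x hx y hy => hAcomm y hy x hx
  have hZ : ¬ RankLE 2 ↥(A ⊓ Subgroup.centralizer (A : Set G)) := by
    intro h
    apply hA3
    exact bg_pRankLE_of_injective (Subgroup.inclusion (le_inf le_rfl hAC))
      (Subgroup.inclusion_injective _) (h p hpp)
  have htr : TransOn A := fun q hq hqA => Cfsg.Agent.S1393.result hG A hTH hZ q hq hqA
  have hexit : ∀ M : Subgroup G, IsCoatom M → PRankLE p 2 ↥(fittingOf M) := by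
    intro M hM
    by_contra hF
    exact hAU (Cfsg.Agent.S1401.result hG M hM p hF A hAp hAc hA3)
  have hanchor : ∀ M : Subgroup G, IsCoatom M → A ≤ M →
      piCoreOf (primesNotDvd (Nat.card A)) (Subgroup.centralizer (A : Set G)) ≤ M →
      ∃ V, IsAnchor A M V := by
    intro M hM hAM hKM
    by_cases hr : RankLE 2 (fittingSubgroup ↥M)
    · exact typeA_anchor hG hAp hA3 hTH htr hM hAM hKM hr (hexit M hM)
    · obtain ⟨u, hu, hF⟩ := exists_prime_not_pRankLE hr
      have : Fact u.Prime := ⟨hu⟩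
      have hup : u ≠ p := by
        rintro rfl
        exact hF (hexit M hM)
      have huA : ¬ u ∣ Nat.card A := fun h => hup (eq_of_prime_dvd_card_pGroup hAp hu h)
      obtain ⟨V, S, hanc, -⟩ := typeB_anchor hG hTH htr hM hAM hKM huA hF
      exact ⟨V, hanc⟩
  -- the element `a`
  have hne := Cfsg.Agent.Lib.Helper2.BG95.scn_inf_commutator_normalizer_ne_bot' hG P A hA hA1
  obtain ⟨⟨a, haA, haN⟩, ha1'⟩ := Subgroup.ne_bot_iff_exists_ne_one.mp hne
  have ha1 : a ≠ 1 := fun h => ha1' (Subtype.ext h)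
  obtain ⟨Ma, hMa, hCaMa⟩ := bg_exists_isCoatom_ge (centralizer_singleton_ne_top hG ha1)
  have hcentA : ∀ b ∈ A, A ≤ Subgroup.centralizer ({b} : Set G) := by
    intro b hb x hx
    rw [mem_centralizer_singleton]
    exact hAcomm b hb x hx
  have hKle : ∀ b ∈ A, piCoreOf (primesNotDvd (Nat.card A)) (Subgroup.centralizer (A : Set G)) ≤
      Subgroup.centralizer ({b} : Set G) := fun b hb =>
    (piCoreOf_le _ _).trans (Subgroup.centralizer_le (Set.singleton_subset_iff.mpr hb))
  have hAMa : A ≤ Ma := (hcentA a haA).trans hCaMa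
  have hKMa := (hKle a haA).trans hCaMa
  obtain ⟨Va, hVa⟩ := hanchor Ma hMa hAMa hKMa
  -- every maximal subgroup over `A K` is `Ma`
  have hclaim : ∀ H : Subgroup G, IsCoatom H → A ≤ H →
      piCoreOf (primesNotDvd (Nat.card A)) (Subgroup.centralizer (A : Set G)) ≤ H → H = Ma := by
    intro H hH hAH hKH
    by_cases hr : RankLE 2 (fittingSubgroup ↥H)
    · obtain ⟨VH, hVH⟩ := hanchor H hH hAH hKH
      have hNA := (hVH.pGroup_le hAp le_rfl hAH).2
      exact bg_le_of_isCoatom hH hMa (typeA_le hG hAp hH hAH hr hNA hAMa hVa haA haN hCaMa)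
    · obtain ⟨u, hu, hF⟩ := exists_prime_not_pRankLE hr
      have : Fact u.Prime := ⟨hu⟩
      have hup : u ≠ p := by
        rintro rfl
        exact hF (hexit H hH)
      have huA : ¬ u ∣ Nat.card A := fun h => hup (eq_of_prime_dvd_card_pGroup hAp hu h)
      obtain ⟨V, S, hanc, hVu, hVH, hVU, hS, hSH, hSU, hVS⟩ :=
        typeB_anchor hG hTH htr hH hAH hKH huA hF
      have hSa := step4 hG hAp hAcomm hA3 hTH hanchor hH hAH hup hF hanc hVu hVH hVU hS haA haN
        hAU
      exact bg_unique_eq hSU hH hSH hMa (hSa.trans hCaMa)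
  have hgood : ∀ b ∈ E, b ≠ 1 → Subgroup.centralizer ({b} : Set G) ≤ Ma := by
    intro b hb hb1
    obtain ⟨H, hH, hCH⟩ := bg_exists_isCoatom_ge (centralizer_singleton_ne_top hG hb1)
    have hHMa := hclaim H hH ((hcentA b (hEA hb)).trans hCH) ((hKle b (hEA hb)).trans hCH)
    rw [← hHMa]
    exact hCH
  have hEU := Cfsg.Agent.S1398.result hG Ma hMa p E (hEA.trans hAMa) hEe hEnc (Or.inl hgood)
  exact hAU (bg_unique_of_le hEU hEA hMa hAMa)

end Cfsg.Agent.Lib.Helper49.BG
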